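import Cfsg.Agent.H799.PiBS.Inv3
import Cfsg.Agent.CpAut.TwoAll
import Cfsg.Agent.KFacts.HS.DFour
import Cfsg.Agent.NotCT.Orders

/-!
# `Inv3` for the Higman-Sims group (helper799, S3876; after H817.RadHS)
-/

set_option autoImplicit false

namespace Cfsg.Agent.H799.PiBS.HS

open Subgroup Cfsg
open Cfsg.Agent.HN Cfsg.Agent.HN.Pres Cfsg.Agent.HN.HS100 Cfsg.Agent.HN.P1408 Cfsg.Agent.HN.H0Basic
open Cfsg.Agent.KFacts.HS Cfsg.Agent.KFacts.HS.DFour

variable {L : Type*} [Group L] (D : Cfsg.Agent.KFacts.HS.Mod L)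

/-- the word is trivvial modulo `τ` -/
def trivv (u : List ℕ) : Bool := eqw u [] || eqw u [0, 0]

/-- the word is nontrivvial modulo `τ` -/
def ntrivv (u : List ℕ) : Bool := okw u && !(eqw u []) && !(eqw u [0, 0])

theorem triv_spec {u : List ℕ} (h : trivv u = true) : hw u = 1 ∨ hw u = τ := by
  unfold trivv at h
  rw [Bool.or_eq_true] at h
  rcases h with h | h
  · exact Or.inl (hw_eq h)
  · exact Or.inr ((hw_eq h).trans hw_τ)

theorem ntriv_spec {u : List ℕ} (h : ntrivv u = true) : ¬ (hw u = 1 ∨ hw u = τ) := by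
  unfold ntrivv at h
  simp only [Bool.and_eq_true, Bool.not_eq_true'] at h
  obtain ⟨⟨h1, h2⟩, h3⟩ := h
  rintro (h4 | h4)
  · rw [eqw_of_hw_eq h1 (by decide) (h4.trans hw_nil.symm)] at h2
    exact absurd h2 (by decide)
  · rw [eqw_of_hw_eq h1 (by decide) (h4.trans hw_τ.symm)] at h3
    exact absurd h3 (by decide)

/-- powers of words -/
def wp (u : List ℕ) : ℕ → List ℕ
  | 0 => []
  | n + 1 => wp u n ++ u

theorem hw_wp (u : List ℕ) (n : ℕ) : hw (wp u n) = hw u ^ n := by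
  induction n with
  | zero => rw [wp, hw_nil, pow_zero]
  | succ n ih => rw [wp, hw_append, ih, pow_succ]

theorem au_one {u : List ℕ} (h : trivv u = true) : D.au (hw u) = 1 := (D.au_ker _).2 (triv_spec h)

theorem au_ne {u : List ℕ} (h : ntrivv u = true) : D.au (hw u) ≠ 1 := fun h1 => ntriv_spec h ((D.au_ker _).1 h1)


theorem three_dvd {X : Type*} [Group X] {c : X} (h6 : c ^ 6 = 1) (h2 : c ^ 2 ≠ 1) : 3 ∣ orderOf c := by
  by_contra h
  have h1 : Nat.Coprime (orderOf c) 3 := ((Nat.Prime.coprime_iff_not_dvd Nat.prime_three).2 h).symm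
  have h3 : orderOf c ∣ 2 * 3 := orderOf_dvd_of_pow_eq_one h6
  exact h2 (orderOf_dvd_iff_pow_eq_one.1 (h1.dvd_of_dvd_mul_right h3))

/-- the check of a commutator of order three or six modulo `τ` -/
def chk6 (h k : List ℕ) : Bool :=
  okw k && !(par k) && trivv (wp (h ++ (k ++ (iw h ++ iw k))) 6) && ntrivv (wp (h ++ (k ++ (iw h ++ iw k))) 2)

theorem bad_of_chk [Finite L] (hc : center L = ⊥) {h k : List ℕ} (hchk : chk6 h k = true) : Bad (D.au (hw h)) := by
  unfold chk6 at hchk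
  simp only [Bool.and_eq_true, Bool.not_eq_true'] at hchk
  obtain ⟨⟨⟨h1, h2⟩, h3⟩, h4⟩ := hchk
  have hk : hw k ∈ K := mem_K_of_par h1 h2
  set a : L := D.π ⟨hw k, hk⟩ with ha
  refine ⟨a, ?_⟩
  have hinj := conj_inj hc
  have h5 : (MulAut.conj (D.au (hw h) a * a⁻¹) : MulAut L) = D.au (hw (h ++ (k ++ (iw h ++ iw k)))) := by
    rw [ha, D.au_π, ← map_inv, ← map_mul, ← D.au_K]
    congr 1
    rw [hw_append, hw_append, hw_append, hw_iw, hw_iw]
    change hw h * hw k * (hw h)⁻¹ * (hw k)⁻¹ = _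
    group
  apply three_dvd
  · apply hinj
    rw [map_pow, h5, map_one, ← map_pow, ← hw_wp]
    exact au_one D h3
  · intro h7
    apply au_ne D h4
    rw [hw_wp, map_pow, ← h5, ← map_pow, h7, map_one]

theorem chk_a : chk6 [2, 2, 2] [0] = true := by decide +kernel
theorem chk_g0 : chk6 TwoB.g0w [2, 2, 2] = true := by decide +kernel
theorem chk_z : chk6 [4] [2] = true := by decide +kernel
theorem chk_d : chk6 [1, 3, 1, 2, 1, 4, 3, 4, 2, 4] [2, 2, 2] = true := by decide +kernel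

theorem inv3_hs {K : Type*} [Group K] [Finite K] [IsSimpleGroup K] (h : Cfsg.Spor.IsoHS K) : Inv3 K := by
  have hcard : Nat.card K = 44352000 := NotCT.Orders.hs h
  obtain ⟨D⟩ := exists_mod h
  have hc : center K = ⊥ := center_bot (by rw [hcard]; norm_num)
  refine Inv3.of_cases hc (fun g hgg hg1 => ?_) fun x hx _ hin => ?_
  · rcases inv_cases D g hgg hg1 with ⟨c, rfl⟩ | ⟨c, rfl⟩
    · rw [map_mul, map_mul, map_inv]
      refine Bad.conj ?_ _
      have h2 : MulAut.conj (DFour.zA D) = D.au (hw [2, 2, 2]) := by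
        rw [zA, ← D.au_K, Syl.hw_a]
      rw [h2]
      exact bad_of_chk D hc chk_a
    · rw [map_mul, map_mul, map_inv]
      refine Bad.conj ?_ _
      have h2 : MulAut.conj (DFour.wB D) = D.au (hw TwoB.g0w) := by
        rw [DFour.wB, ← D.au_K]
        rfl
      rw [h2]
      exact bad_of_chk D hc chk_g0
  · obtain ⟨a, h1 | h1⟩ := CpAutTwo.HS.outer_cases D x hx hin
    · rw [h1, ← hw_z]
      exact (bad_of_chk D hc chk_z).conj a
    · rw [h1]
      exact (bad_of_chk D hc chk_d).conj a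

end Cfsg.Agent.H799.PiBS.HS
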