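import Cfsg.Agent.H799.PiBS.L32
import Cfsg.Agent.H815.Row2He

/-!
# `Inv3` for the Held group (helper799, S3876; after H815.Row2He, H287.OutHe)
-/

set_option autoImplicit false
set_option maxRecDepth 100000

namespace Cfsg.Agent.H799.PiBS.He

open Subgroup Cfsg
open Cfsg.Agent.SporadicRecognition.HeldModel Cfsg.Agent.KFacts.TwoSix.Base
  Cfsg.Agent.KFacts.TwoSix.Facts Cfsg.Agent.OddHalf.D8 Cfsg.Agent.KFacts.TwoSix.Aut
  Cfsg.Agent.Held.AffineIso
open Cfsg.Agent.H287.OutHe Cfsg.Agent.OddHalf.UT5.Model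

universe u

/-! ### The involutions -/

section Inn

open Cfsg.Spor Cfsg.Spor.He Cfsg.Agent.SporadicB.HePerm Cfsg.Agent.FixBN.HeStab
open Cfsg.Agent.H58.HeOdd Cfsg.Agent.H815.Row2He

theorem k1 : (chkB (pw [.b, .c] 3) [] && !(chkB [.b, .c] []) && chkB [.b, .b] [] && chkB [.c, .c] []) = true := by
  decide +kernel

theorem k2 : (chkB (pw (zl ++ cj [.g] zl) 3) [] && !(chkB (zl ++ cj [.g] zl) []) && chkB (zl ++ zl) []) = true := by
  decide +kernel

theorem bad_c : Bad (MulAut.conj (wd [.c] : Cfsg.Spor.He)) := by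
  have h := k1
  simp only [Bool.and_eq_true, Bool.not_eq_true'] at h
  obtain ⟨⟨⟨h1, h2⟩, h3⟩, h4⟩ := h
  have e1 : wd [.b, .c] ^ 3 = 1 := by rw [← wd_pw]; exact eq_of_chkB h1
  have e2 : wd [.b, .c] ≠ 1 := by rw [← wd_nil']; exact ne_of_chkB h2
  have e3 : wd [.b] * wd [.b] = 1 := by rw [← wd_app]; exact eq_of_chkB h3
  have e4 : wd [.c] * wd [.c] = 1 := by rw [← wd_app]; exact eq_of_chkB h4
  have e5 : wd [.b, .c] = wd [.b] * wd [.c] := wd_app [.b] [.c]
  rw [e5] at e1 e2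
  have hb' : (wd [.b])⁻¹ = wd [.b] := inv_eq_of_mul_eq_one_right e3
  have hc' : (wd [.c])⁻¹ = wd [.c] := inv_eq_of_mul_eq_one_right e4
  refine Bad.of_dihedral (t := wd [.b]) e4 e3 ?_ ?_
  · have e6 : (wd [.c] * wd [.b]) = (wd [.b] * wd [.c])⁻¹ := by rw [mul_inv_rev, hb', hc']
    rw [e6, inv_pow, e1, inv_one]
  · intro h5
    apply e2
    have e6 : (wd [.c] * wd [.b]) = (wd [.b] * wd [.c])⁻¹ := by rw [mul_inv_rev, hb', hc']
    rwa [e6, inv_eq_one] at h5

theorem bad_z : Bad (MulAut.conj (CTwoTab.He.z : Cfsg.Spor.He)) := by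
  have h := k2
  simp only [Bool.and_eq_true, Bool.not_eq_true'] at h
  obtain ⟨⟨h1, h2⟩, h3⟩ := h
  have e1 : wd (zl ++ cj [.g] zl) ^ 3 = 1 := by rw [← wd_pw]; exact eq_of_chkB h1
  have e2 : wd (zl ++ cj [.g] zl) ≠ 1 := by rw [← wd_nil']; exact ne_of_chkB h2
  have e3 : wd zl * wd zl = 1 := by rw [← wd_app]; exact eq_of_chkB h3
  rw [wd_app, wd_cj] at e1 e2
  rw [z_eq]
  refine Bad.of_dihedral e3 ?_ e1 e2
  calc wd [.g] * wd zl * (wd [.g])⁻¹ * (wd [.g] * wd zl * (wd [.g])⁻¹)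
      = wd [.g] * (wd zl * wd zl) * (wd [.g])⁻¹ := by group
    _ = 1 := by rw [e3]; group

theorem inner {k : Cfsg.Spor.He} (hkk : k * k = 1) (hk1 : k ≠ 1) : Bad (MulAut.conj k) := by
  rcases CTwoTab.He.classes hkk hk1 with h | h
  · exact bad_z.inner h
  · have ha : wd [.a] = KFacts.He.Lv.gn .a := KFacts.He.Lv.wd_one _
    exact bad_c.inner (conj_ac.symm.trans (ha ▸ h))

end Inn

/-! ### The outer automorphisms -/

theorem isSimple_L3 : IsSimpleGroup L3 := H820.SL32.isSimple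

theorem not_solvable_L3 : ¬ Group.IsSolvable L3 := by
  intro hsol
  have hs := isSimple_L3
  obtain ⟨x, y, hxy⟩ := H820.SL32.noncomm
  exact hxy (IsSimpleGroup.comm_iff_isSolvable.2 hsol x y)

theorem inv3_L3 : Inv3 L3 := L32.inv3_l32

/-- an involutory automorphism fixing `z` is bad or trivial on `C(z) / O₂(C(z))` -/
theorem bad_or {G : Type u} [Group G] [Finite G] {z : G} {ι : CC →* G} (h : Hyp z ι) {ψ : MulAut G}
    (hψψ : ψ * ψ = 1) {b : CC ≃* CC} (hb : ∀ u, ι (b u) = ψ (ι u)) : Bad ψ ∨ ∀ t, b t * t⁻¹ ∈ Q := by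
  have hx : ∀ m ∈ ι.range, ψ m ∈ ι.range := by
    rintro _ ⟨u, rfl⟩
    exact ⟨b u, hb u⟩
  have hs : IsSimpleGroup L3 := isSimple_L3
  let e : CC ≃* ι.range := MonoidHom.ofInjective h.inj
  have hf2 : Fact (Nat.Prime 2) := ⟨Nat.prime_two⟩
  have hk : Group.IsSolvable ↥(toL3.comp e.symm.toMonoidHom).ker := by
    have hQp : IsPGroup 2 ↥toL3.ker := by
      rw [toL3_ker]
      exact IsPGroup.of_card (n := 7) (by rw [show QQ.subgroupOf CC = Q from rfl, card_Q]; norm_num)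
    have h1 : IsPGroup 2 ↥(toL3.comp e.symm.toMonoidHom).ker := by
      rw [← MonoidHom.comap_ker]
      exact hQp.comap_of_injective _ e.symm.injective
    have := h1.isNilpotent
    infer_instance
  rcases eq_or_bad_simple hψψ hx not_solvable_L3 (toL3.comp e.symm.toMonoidHom)
    (toL3_surjective.comp e.symm.surjective) hk inv3_L3 with hbad | key
  · exact Or.inl hbad
  · right
    intro t
    have key := key (e t)
    have h1 : (⟨ψ (e t), hx _ (e t).2⟩ : ι.range) = e (b t) := Subtype.ext (hb t).symm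
    rw [h1] at key
    have h2 : toL3 (b t) = toL3 t := by
      have h3 : toL3 (e.symm (e (b t))) = toL3 (e.symm (e t)) := key
      rwa [e.symm_apply_apply, e.symm_apply_apply] at h3
    show b t * t⁻¹ ∈ QQ.subgroupOf CC
    rw [← toL3_ker, MonoidHom.mem_ker, map_mul, map_inv, h2, mul_inv_cancel]

/-- **outer involutory automorphisms are bad** -/
theorem outer {G : Type u} [Group G] [Finite G] [IsSimpleGroup G] {z : G} {ι : CC →* G} (h : Hyp z ι) {φ : MulAut G}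
    (hφ : φ * φ = 1) (hout : ¬ ∃ g, φ = MulAut.conj g) : Bad φ := by
  have hf : Fact (Nat.Prime 2) := ⟨Nat.prime_two⟩
  obtain ⟨S, hS⟩ := exists_sylow h
  obtain ⟨g, h1, -⟩ := H287.exists_conj hφ S
  set ψ := MulAut.conj g * φ * (MulAut.conj g)⁻¹ with hψ
  have hψψ' : ψ * ψ = 1 := by
    have : ψ * ψ = MulAut.conj g * (φ * φ) * (MulAut.conj g)⁻¹ := by rw [hψ]; group
    rw [this, hφ, mul_one, mul_inv_cancel]
  have hψψ : ∀ x, ψ (ψ x) = x := fun x => congrArg (fun f : MulAut G => f x) hψψ'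
  have hmemS : ∀ x, x ∈ S ↔ ∃ u : ↥CC, (u : L5) ∈ T0 ∧ ι u = x := by
    intro x
    change x ∈ (S : Subgroup G) ↔ _
    rw [hS]
    rfl
  have hzS : z ∈ S := (hmemS z).2 ⟨zC, x_mem_T0 (by decide), h.map_zz⟩
  -- `ψ` fixes `z`
  have hψz : ψ z = z := by
    have h4 : ψ z = 1 ∨ ψ z = z := by
      refine OddHalf.UT5.KBasic.center_T0 h ?_ ?_
      · obtain ⟨u, -, hu⟩ := (hmemS _).1 (h1 z hzS)
        rw [← hu]
        exact OddHalf.UT5.KBasic.comm_z h u
      · intro u hu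
        have h5 : ψ (ι u) ∈ S := h1 _ ((hmemS _).2 ⟨u, hu, rfl⟩)
        obtain ⟨v, -, hv⟩ := (hmemS _).1 h5
        have h6 : ι u = ψ (ι v) := by rw [hv, hψψ]
        rw [h6, ← map_mul, ← map_mul, OddHalf.UT5.KBasic.comm_z h v]
    rcases h4 with h4 | h4
    · exfalso
      have h5 : z = 1 := by
        have := congrArg ψ h4
        rwa [hψψ, map_one] at this
      exact Held.Pattern.z_ne_one h h5
    · exact h4
  obtain ⟨b, hb⟩ := OddHalf.UT5.KBasic.exists_b h ψ hψz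
  rcases KFacts.TwoSix.AutCC.aut b with ⟨c, hc | hc⟩
  · exfalso
    apply hout
    obtain ⟨k, hk⟩ := OddHalf.UT5.KBasic.inner_of h (α := ψ) (c := c)
      (fun u => by rw [← hb, hc, map_mul, map_mul, map_inv])
    refine ⟨g⁻¹ * k * g, ?_⟩
    have h4 : φ = (MulAut.conj g)⁻¹ * ψ * MulAut.conj g := by rw [hψ]; group
    rw [h4, ← hk, map_mul, map_mul, map_inv]
  · have h5 : φ = (MulAut.conj g)⁻¹ * ψ * (MulAut.conj g)⁻¹⁻¹ := by rw [hψ]; group
    rcases bad_or h hψψ' hb with h4 | h4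
    · rw [h5]
      exact h4.conj _
    · exfalso
      refine H815.Row2He.no_swap (b := b) ?_ h4
      intro e he
      rw [hc]
      exact norm_A2 (OddHalf.UT5.Fam.tauC_R1 e he)

theorem inv3_he' : Inv3 Spor.He := by
  have hs : IsSimpleGroup Spor.He := Cfsg.Agent.S1695.result.1
  have hcard : Nat.card Spor.He = 4030387200 := NotCT.Orders.he ⟨MulEquiv.refl _⟩
  have : Finite Spor.He := Nat.finite_of_card_ne_zero (by rw [hcard]; norm_num)
  obtain ⟨z, ι, hH⟩ := Cfsg.Agent.KFacts.He.Hyp.hyp_he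
  refine Inv3.of_cases (center_bot (by rw [hcard]; norm_num)) (fun g hgg hg1 => inner hgg hg1) ?_
  intro x _ hxx hout
  exact outer hH hxx hout

theorem inv3_he {K : Type u} [Group K] [Finite K] [IsSimpleGroup K] (h : Cfsg.Spor.IsoHe K) : Inv3 K := by
  obtain ⟨e⟩ := h
  exact inv3_he'.congr e

end Cfsg.Agent.H799.PiBS.He
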