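import Cfsg.Agent.H799.PiBS.Inv3
import Cfsg.Agent.H269.CubeTools
import Cfsg.Agent.H269.CubeJ2
import Cfsg.Agent.OddHalf.D4.Spor.J1Out
import Cfsg.Agent.UGT.EndJ1.Data

/-!
# `Inv3` for the Janko groups `J₁`, `J₂` (helper799, S3876)
-/

set_option autoImplicit false

namespace Cfsg.Agent.H799.PiBS

open Subgroup Cfsg

/-! ### `J₁` -/

section JOne

open Cfsg.Agent.SporadicB.J1.Mat Cfsg.Agent.SporadicB.J1.Data Cfsg.Agent.SporadicB.KTab
open Cfsg.Agent.SporadicB.J1.Main Cfsg.Agent.UGT.EndJ1.Data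

theorem j1_pow : (e 1 * X * (e 1)⁻¹ * X⁻¹) ^ 3 = 1 :=
  (((((rep_e 1).mul repX).mul (rep_ei 1)).mul repXi).pow 3).eq Rep.one (by decide +kernel)

theorem j1_ne : e 1 * X * (e 1)⁻¹ * X⁻¹ ≠ 1 :=
  ((((rep_e 1).mul repX).mul (rep_ei 1)).mul repXi).ne Rep.one (by decide +kernel)

theorem inv3_j1 {K : Type*} [Group K] (h : Cfsg.Spor.IsoJ1 K) : Inv3 K := by
  obtain ⟨e'⟩ := h
  obtain ⟨D⟩ := exists_dat
  have hc := D.card
  have : Finite Spor.J1 := D.fin
  have : IsSimpleGroup Spor.J1 := isJ1.1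
  refine Inv3.congr e' (Inv3.of_inner (center_bot (by rw [hc]; norm_num)) Cfsg.Agent.OddHalf.D4.Spor.J1Out.inn
    fun t ht h1 => ?_)
  obtain ⟨g, hg⟩ := D.conj_t ht h1
  obtain ⟨g', hg'⟩ := D.conj_t (e_sq 1) ((rep_e 1).ne Rep.one (by decide +kernel))
  exact (Bad.of_comm j1_pow j1_ne).inner ((isConj_iff.2 ⟨g', hg'⟩).symm.trans (isConj_iff.2 ⟨g, hg⟩))

end JOne

/-! ### `J₂` -/

section JTwo

open Equiv
open Cfsg.Agent.SporadicA.PermTab Cfsg.Agent.SporadicA.J2Data Cfsg.Agent.SporadicA.J2Hundred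
open Cfsg.Agent.H269.CubeJ2Data Cfsg.Agent.H269.CubeTools Cfsg.Agent.H383.Cube Cfsg.Agent.H269.CubeJ2

/-- product of generators -/
def wp : List ℕ → Perm (Fin 100)
  | [] => 1
  | k :: w => gp k * wp w

/-- its action on numbers -/
def wn : List ℕ → ℕ → ℕ
  | [], j => j
  | k :: w, j => lk (gt k) (wn w j)

theorem wp_val (w : List ℕ) (i : Fin 100) : (wp w i : ℕ) = wn w i := by
  induction w with
  | nil => rfl
  | cons k w ih =>
    show (gp k (wp w i) : ℕ) = _
    rw [gp_val, ih]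
    rfl

theorem wp_append (v w : List ℕ) : wp (v ++ w) = wp v * wp w := by
  induction v with
  | nil => rw [List.nil_append, wp, one_mul]
  | cons k v ih => rw [List.cons_append, wp, wp, ih, mul_assoc]

theorem wp_inv (w : List ℕ) : (wp w)⁻¹ = wp w.reverse := by
  induction w with
  | nil => rw [wp, inv_one]; rfl
  | cons k w ih =>
    rw [List.reverse_cons, wp_append, wp, mul_inv_rev, ih, gp_inv, wp, wp, mul_one]

theorem wp_pow (w : List ℕ) (n : ℕ) (i : Fin 100) : (((wp w) ^ n) i : ℕ) = (wn w)^[n] i := by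
  induction n with
  | zero => rfl
  | succ n ih =>
    rw [pow_succ', Perm.mul_apply, wp_val, ih, Function.iterate_succ_apply']

theorem gp_G {k : ℕ} (hk : k < 5) : gp k ∈ G := by
  interval_cases k
  exacts [mA, mB, mC, mD, mE]

theorem wp_G (w : List ℕ) (hw : ∀ k ∈ w, k < 5) : wp w ∈ G := by
  induction w with
  | nil => exact one_mem _
  | cons k w ih =>
    exact mul_mem (gp_G (hw k List.mem_cons_self)) (ih fun l hl => hw l (List.mem_cons_of_mem _ hl))

/-- a prime cycle length divides the order -/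
theorem dvd_of_cycle {X : Type*} {c : Equiv.Perm X} {l : ℕ} (hl : l.Prime) {i : X} (h1 : (c ^ l) i = i)
    (h2 : c i ≠ i) : l ∣ orderOf c := by
  have h3 : MulAction.period c i ∣ l := MulAction.pow_smul_eq_iff_period_dvd.1 h1
  rcases (Nat.dvd_prime hl).1 h3 with h4 | h4
  · exfalso
    apply h2
    have h5 : c ^ 1 • i = i := MulAction.pow_smul_eq_iff_period_dvd.2 (h4 ▸ dvd_rfl)
    rwa [pow_one] at h5
  · rw [← h4]
    exact MulAction.period_dvd_orderOf c i

/-- the commutator of a generator with a word has order divisible by three -/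
theorem comm_dvd {k : ℕ} (w : List ℕ)
    (h1 : (wn (k :: w ++ (k :: w.reverse)))^[3] 0 = 0) (h2 : wn (k :: w ++ (k :: w.reverse)) 0 ≠ 0) :
    3 ∣ orderOf (gp k * wp w * (gp k)⁻¹ * (wp w)⁻¹) := by
  have e : gp k * wp w * (gp k)⁻¹ * (wp w)⁻¹ = wp (k :: w ++ (k :: w.reverse)) := by
    rw [wp_append, wp, wp, wp_inv, gp_inv]
    group
  rw [e]
  refine dvd_of_cycle (i := (0 : Fin 100)) Nat.prime_three (Fin.ext ?_) fun h => h2 ?_
  · rw [wp_pow]
    exact h1
  · have h3 := wp_val (k :: w ++ (k :: w.reverse)) (0 : Fin 100)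
    rw [h] at h3
    exact h3.symm

theorem typ_dvd (k : ℕ) : ∃ a ∈ G, 3 ∣ orderOf (typP k * a * (typP k)⁻¹ * a⁻¹) := by
  match k with
  | 0 => exact ⟨wp [1, 2, 0, 1], wp_G _ (by decide),
      comm_dvd (k := 0) [1, 2, 0, 1] (by decide +kernel) (by decide +kernel)⟩
  | 1 => exact ⟨wp [4], wp_G _ (by decide), comm_dvd (k := 3) [4] (by decide +kernel) (by decide +kernel)⟩
  | (n + 2) => exact ⟨wp [1], wp_G _ (by decide), comm_dvd (k := 5) [1] (by decide +kernel) (by decide +kernel)⟩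

theorem inv3_hundred : Inv3 G := by
  intro α ho
  obtain ⟨h, hh, ha⟩ := aut_G α
  have h1 : h ≠ 1 := by
    rintro rfl
    have : α = 1 := by
      apply MulEquiv.ext
      intro g
      apply Subtype.ext
      rw [ha]
      simp
    rw [this, orderOf_one] at ho
    exact absurd ho (by norm_num)
  have h2 : h * h = 1 := by
    refine cent_triv fun g hg => ?_
    have h3 : α * α = 1 := by rw [← pow_two, ← ho]; exact pow_orderOf_eq_one _
    have h4 := congrArg (fun f : MulAut G => ((f ⟨g, hg⟩ : G) : Perm (Fin 100))) h3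
    simp only [MulAut.mul_apply, ha, MulAut.one_apply] at h4
    calc g * (h * h) = (h * (h * g * h⁻¹) * h⁻¹) * (h * h) := by rw [h4]
      _ = h * h * g := by group
  obtain ⟨k, g, hg, e⟩ := inv_HH hh h2 h1
  obtain ⟨a, haG, hd⟩ := typ_dvd k
  refine ⟨⟨g * a * g⁻¹, conj_mem_G hg haG⟩, ?_⟩
  rw [← Subgroup.orderOf_coe, Subgroup.coe_mul, ha, Subgroup.coe_inv]
  have e1 : h * (g * a * g⁻¹) * h⁻¹ * (g * a * g⁻¹)⁻¹ = g * (typP k * a * (typP k)⁻¹ * a⁻¹) * g⁻¹ := by
    rw [e]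
    group
  show 3 ∣ orderOf (h * (g * a * g⁻¹) * h⁻¹ * (g * a * g⁻¹)⁻¹)
  rw [e1, ← MulAut.conj_apply, MulEquiv.orderOf_eq]
  exact hd

theorem inv3_j2 {K : Type*} [Group K] (h : Cfsg.Spor.IsoJ2 K) : Inv3 K := by
  obtain ⟨e⟩ := h
  obtain ⟨f⟩ := Cfsg.Agent.J2.HundredGens.J2_iso Cfsg.Agent.S1619.result.2.2.2
  exact inv3_hundred.congr (e.trans f)

end JTwo

end Cfsg.Agent.H799.PiBS
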