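import Cfsg.Agent.H799.PiBS.Inv3
import Cfsg.Agent.J4.Invol
import Cfsg.Agent.J4Type.Final
import Cfsg.Agent.S2068
import Cfsg.Agent.S1703
import Cfsg.Agent.NotCT.Orders

/-!
# `Inv3` for the fourth Janko group (helper799, S3876; after H96.Rad2.JFour)
-/

set_option autoImplicit false
set_option maxRecDepth 100000

namespace Cfsg.Agent.H799.PiBS.J4

open Subgroup Cfsg
open Cfsg.Agent.Lib Cfsg.Agent.Lib.F2MatGroup Cfsg.Agent.J4.Rep112 Cfsg.Agent.J4.Lower Cfsg.Agent.J4.Invol
open Cfsg.Agent.J4.Beta Cfsg.Agent.J4.NonConjData Cfsg.Agent.J4.NonConj Cfsg.Agent.J4.RepData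

theorem codes_s : List.Forall₂ (Codes 112) ([x, y, y⁻¹, t, s].map rho) [X, Y, YI, T, Zc] := by
  simp only [List.map_cons, List.map_nil, map_inv, rho_x, rho_y, rho_t, rho_s]
  exact .cons cx (.cons cy (.cons cy' (.cons ct (.cons codes_ZD.1 .nil))))

theorem codes_d : List.Forall₂ (Codes 112) ([x, y, y⁻¹, t, d].map rho) [X, Y, YI, T, Dc] := by
  simp only [List.map_cons, List.map_nil, map_inv, rho_x, rho_y, rho_t, rho_d]
  exact .cons cx (.cons cy (.cons cy' (.cons ct (.cons codes_ZD.2 .nil))))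

theorem chk_s : check 112 [X, Y, YI, T, Zc] [[4, 3, 4, 3]] [([0, 0, 0], []),
    ([5, 5], []), ([4, 4], [])] [([0], [])] = true := by decide +kernel

theorem chk_d : check 112 [X, Y, YI, T, Dc] [[4, 3, 4, 3]] [([0, 0, 0], []), ([5, 5], []), ([4, 4], [])]
    [([0], [])] = true := by decide +kernel

/-- the word of the commutator `[s, t]` -/
theorem word_s {G H : Type*} [Group G] [Group H] (f : G →* H) {s t : G} (hs : f s * (f s * 1) = 1)
    (ht : f t * (f t * 1) = 1) : f s * (f t * (f s * (f t * 1))) = f (s * t * s⁻¹ * t⁻¹) := by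
  rw [mul_one] at hs ht
  simp only [map_mul, map_inv]
  rw [inv_eq_of_mul_eq_one_left hs, inv_eq_of_mul_eq_one_left ht, mul_one]
  group

theorem order_of_three {H : Type*} [Group H] {a c : H} (h : a = c) (h1 : a * (a * (a * 1)) = 1) (h2 : a * 1 ≠ 1) :
    orderOf c = 3 := by
  have : Fact (Nat.Prime 3) := ⟨by norm_num⟩
  rw [← h]
  rw [mul_one] at h2
  refine orderOf_eq_prime ?_ h2
  rw [← h1]
  simp only [pow_succ, pow_zero, one_mul, mul_one, mul_assoc]

theorem order_s : orderOf (rho (s * t * s⁻¹ * t⁻¹)) = 3 := by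
  obtain ⟨h1, h2⟩ := check_sound (n := 112) (by norm_num) codes_s chk_s
  exact order_of_three (word_s rho (h1 ([5, 5], []) (by simp)) (h1 ([4, 4], []) (by simp)))
    (h1 ([0, 0, 0], []) (by simp)) (h2 ([0], []) (by simp))

theorem order_d : orderOf (rho (d * t * d⁻¹ * t⁻¹)) = 3 := by
  obtain ⟨h1, h2⟩ := check_sound (n := 112) (by norm_num) codes_d chk_d
  exact order_of_three (word_s rho (h1 ([5, 5], []) (by simp)) (h1 ([4, 4], []) (by simp)))
    (h1 ([0, 0, 0], []) (by simp)) (h2 ([0], []) (by simp))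

/-- trivial outer automorphism group: all automorphisms are inner -/
theorem inner_of_card {X : Type*} [Group X] [Finite X] (h : Nat.card (Cfsg.Out X) = 1) (x : MulAut X) :
    ∃ a : X, x = MulAut.conj a := by
  have hs : Subsingleton (Cfsg.Out X) := (Nat.card_eq_one_iff_unique.1 h).1
  have h3 : (QuotientGroup.mk x : Cfsg.Out X) = 1 := Subsingleton.elim _ _
  obtain ⟨a, ha⟩ := (QuotientGroup.eq_one_iff x).1 h3
  exact ⟨a, ha.symm⟩

theorem inv3_j4 {K : Type*} [Group K] [Finite K] [IsSimpleGroup K] (h : Cfsg.Spor.IsoJ4 K) : Inv3 K := by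
  obtain ⟨e⟩ := h
  have hfin : Finite Cfsg.Spor.J4 := Finite.of_equiv K e.toEquiv
  have hs : IsSimpleGroup Cfsg.Spor.J4 := e.symm.isSimpleGroup
  have hcard : Nat.card Cfsg.Spor.J4 = 86775571046077562880 := NotCT.Orders.j4 ⟨MulEquiv.refl _⟩
  refine Inv3.congr e (Inv3.of_inner (center_bot (by rw [hcard]; norm_num))
    (inner_of_card Cfsg.Agent.S2068.result) fun a haa ha1 => ?_)
  rcases Cfsg.Agent.J4Type.Final.invol Cfsg.Agent.S1703.result a haa ha1 with h1 | h1
  · exact (Bad.of_map rho (dvd_of_eq order_s.symm)).inner h1.symm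
  · exact (Bad.of_map rho (dvd_of_eq order_d.symm)).inner h1.symm

end Cfsg.Agent.H799.PiBS.J4
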