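import Cfsg.Agent.H799.PiBS.Inv3
import Cfsg.Agent.FooteOdd.SporMEleven
import Cfsg.Agent.SectRankFour.AutM11
import Cfsg.Agent.CoThreeStd.AutInv
import Cfsg.Agent.NotCT.Orders

/-!
# `Inv3` for the Mathieu groups of degree 11 and 12 (helper799, S3876)
-/

set_option autoImplicit false

namespace Cfsg.Agent.H799.PiBS

open Subgroup Cfsg

/-! ### `M11` -/

section MEleven

open Cfsg.Agent.FooteOdd.SporMEleven

/-- an involution conjugate to `eW` -/
def m11b : Spor.M11 := eT * (eW * (eT * eT))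

theorem m11b_sq : m11b * m11b = 1 := by
  apply ext11
  decide +kernel

theorem m11_cube : eW * (m11b * eW * m11b) * (eW * (m11b * eW * m11b)) * (eW * (m11b * eW * m11b)) = 1 := by
  apply ext11
  decide +kernel

theorem m11_ne : eW * (m11b * eW * m11b) ≠ 1 := by
  intro h
  have h1 : ∀ p : GolayPt, (eW * (m11b * eW * m11b)).1 p = (1 : Spor.M11).1 p := fun p => by rw [h]
  exact absurd h1 (by decide +kernel)

theorem m11_conj (t : Spor.M11) (ht : t * t = 1) (h1 : t ≠ 1) : IsConj eW t := by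
  obtain ⟨g, hg⟩ := conj_X t h1 ht
  obtain ⟨k, hk⟩ := conj_X eW W_ne W_sq
  exact (isConj_iff.2 ⟨k, hk⟩).symm.trans (isConj_iff.2 ⟨g, hg⟩)

theorem inv3_m11_model : Inv3 Spor.M11 := by
  have hs : IsSimpleGroup Spor.M11 := simple
  have hM : IsM11 Spor.M11 := ⟨simple, card⟩
  refine Inv3.of_inner (center_bot (by rw [card]; norm_num))
    (fun x => Cfsg.Agent.SectRankFour.AutM11.exists_conj hM x) fun t ht h1 => ?_
  refine (Bad.of_dihedral (s := eW) (t := m11b * eW * m11b) W_sq ?_ ?_ m11_ne).inner (m11_conj t ht h1)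
  · calc m11b * eW * m11b * (m11b * eW * m11b) = m11b * eW * (m11b * m11b) * eW * m11b := by group
      _ = m11b * (eW * eW) * m11b := by rw [m11b_sq]; group
      _ = 1 := by rw [W_sq, mul_one, m11b_sq]
  · rw [pow_succ, pow_two]
    exact m11_cube

theorem inv3_m11 {K : Type*} [Group K] (h : Cfsg.Spor.IsoM11 K) : Inv3 K := by
  obtain ⟨e⟩ := h
  exact inv3_m11_model.congr e

end MEleven

/-! ### `M12` -/

section MTwelve

open Cfsg.Agent.CoThreeStd.MTwelve (H y p r inv_class)
open Cfsg.Agent.CoThreeStd.AutWord Cfsg.Agent.CoThreeStd.AutGamma Cfsg.Agent.CoThreeStd.AutClass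
open Cfsg.Agent.CoThreeStd.AutInv (outer_conj)

/-- the order of a word -/
theorem orderOf_wg {w : List ℕ} {l : ℕ} (hl : l.Prime) (h1 : eqG (List.replicate l w).flatten [] = true)
    (h2 : eqG w [] = false) : orderOf (wg w) = l := by
  have := Fact.mk hl
  have h3 : ∀ n : ℕ, wg (List.replicate n w).flatten = wg w ^ n := by
    intro n
    induction n with
    | zero => simp [wg_nil]
    | succ n ih => rw [List.replicate_succ, List.flatten_cons, wg_append, ih, pow_succ']
  apply orderOf_eq_prime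
  · rw [← h3, wg_eq h1, wg_nil]
  · intro h
    have h4 := eqG_of (l := w) (l' := []) (by rw [h, wg_nil])
    rw [h2] at h4
    cases h4

theorem bad_au {w m : List ℕ} (hm : pur m = true)
    (h1 : eqG (List.replicate 3 (w ++ (m ++ (wi w ++ wi m)))).flatten [] = true)
    (h2 : eqG (w ++ (m ++ (wi w ++ wi m))) [] = false) : Bad (au w) := by
  refine ⟨wh m, ?_⟩
  have h3 := orderOf_wg Nat.prime_three h1 h2
  have e : ((au w (wh m) * (wh m)⁻¹ : H) : Equiv.Perm GolayPt) = wg (w ++ (m ++ (wi w ++ wi m))) := by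
    rw [wg_append, wg_append, wg_append, wg_wi, wg_wi, wg_pur hm]
    change (au w (wh m) : Equiv.Perm GolayPt) * ((wh m : H) : Equiv.Perm GolayPt)⁻¹ = _
    rw [au_apply]
    group
  rw [← Subgroup.orderOf_coe, e, h3]

theorem bad_y : Bad (au [0]) := bad_au (m := [5, 1, 5]) rfl (by decide +kernel) (by decide +kernel)
theorem bad_pr : Bad (au [1, 3]) := bad_au (m := [4]) rfl (by decide +kernel) (by decide +kernel)
theorem bad_c : Bad (au [6]) := bad_au (m := [1, 5, 1]) rfl (by decide +kernel) (by decide +kernel)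

theorem inv3_m12 {K : Type*} [Group K] [Finite K] [IsSimpleGroup K] (h : Cfsg.Spor.IsoM12 K) : Inv3 K := by
  have hn := NotCT.Orders.m12 h
  obtain ⟨e⟩ := h
  have hn' : Nat.card Spor.M12 = 95040 := by rw [← hn, Nat.card_congr e.toEquiv]
  have : Finite Spor.M12 := Finite.of_equiv K e.toEquiv
  have hs : IsSimpleGroup Spor.M12 := e.symm.isSimpleGroup
  refine Inv3.congr e (Inv3.of_cases (center_bot (by rw [hn']; norm_num)) (fun t ht2 ht1 => ?_) fun v _ hvv hin => ?_)
  · rcases inv_class t ht1 ht2 with ⟨m, rfl⟩ | ⟨m, rfl⟩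
    · have h1 : Bad (MulAut.conj y) := by
        have := bad_y
        rwa [au_pur rfl, wh_y] at this
      exact h1.inner (isConj_iff.2 ⟨m⁻¹, by rw [inv_inv]⟩)
    · have h1 : Bad (MulAut.conj (p * r)) := by
        have := bad_pr
        rw [au_pur rfl] at this
        rwa [Cfsg.Agent.CoThreeStd.AutStruct.wh_pr] at this
      exact h1.inner (isConj_iff.2 ⟨m⁻¹, by rw [inv_inv]⟩)
  · have hin' : v ∉ Cfsg.Agent.CoThreeStd.AutClass.Inn := by
      rintro ⟨t, rfl⟩
      exact hin ⟨t, rfl⟩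
    obtain ⟨m, rfl⟩ := outer_conj hin' hvv
    exact Bad.conj bad_c _

end MTwelve

end Cfsg.Agent.H799.PiBS
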